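import Mathlib
import Groth.Prelude
import Groth.Agent.Lib.Helper8.KosImm.Comp
import Groth.Agent.Lib.Helper8.Kos.KRIdeal

set_option autoImplicit false
set_option linter.style.haveILetI false

universe u

open CategoryTheory CategoryTheory.Limits AlgebraicGeometry

attribute [local instance] HasDerivedCategory.standard

namespace Groth.Agent.H8.KosBCImm

variable {X Z : Scheme.{u}}

/-- a prime of `Γ(X, U)` containing the kernel of `j.app U` (for `j ∣_ U` a closed immersion,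
`U` affine) is the image of a point of `Z`. -/
theorem exists_point_of_ker_le (j : Z ⟶ X) (U : X.Opens) (hU : IsAffineOpen U)
    (hcl : IsClosedImmersion (j ∣_ U)) (𝔭 : PrimeSpectrum Γ(X, U))
    (h𝔭 : RingHom.ker (j.app U).hom ≤ 𝔭.asIdeal) : ∃ z : Z, j z = hU.fromSpec 𝔭 := by
  haveI := hcl
  obtain ⟨hV, hsurj⟩ :=
    Groth.Agent.H1.RegImmersion.affine_and_surjective_of_isClosedImmersion_restrict j U hU
  haveI : (𝔭.asIdeal.map (j.app U).hom).IsPrime :=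
    Ideal.map_isPrime_of_surjective hsurj h𝔭
  have hcm : (𝔭.asIdeal.map (j.app U).hom).comap (j.app U).hom = 𝔭.asIdeal := by
    rw [Ideal.comap_map_of_surjective _ hsurj, ← RingHom.ker_eq_comap_bot]
    exact sup_eq_left.mpr h𝔭
  let 𝔮 : PrimeSpectrum Γ(Z, j ⁻¹ᵁ U) := ⟨𝔭.asIdeal.map (j.app U).hom, inferInstance⟩
  refine ⟨hV.fromSpec 𝔮, ?_⟩
  have h1 := IsAffineOpen.SpecMap_appLE_fromSpec j hU hV le_rfl
  have h2 := congrArg (fun φ : Spec Γ(Z, j ⁻¹ᵁ U) ⟶ X => φ 𝔮) h1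
  simp only [Scheme.Hom.comp_apply] at h2
  rw [← h2]
  congr 1
  apply PrimeSpectrum.ext
  change (𝔭.asIdeal.map (j.app U).hom).comap (j.appLE U (j ⁻¹ᵁ U) le_rfl).hom = 𝔭.asIdeal
  rw [Scheme.Hom.appLE_eq_app]
  exact hcm

/-- **a Koszul-regular immersion has Koszul-regular kernel on every affine open over which it
is a closed immersion.** -/
theorem isKoszulRegularIdeal_ker (j : Z ⟶ X) (hj : RegImm.IsRegularImmersion .koszul j)
    (U : X.Opens) (hU : IsAffineOpen U) (hcl : IsClosedImmersion (j ∣_ U)) :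
    LCI.IsKoszulRegularIdeal (RingHom.ker (j.app U).hom) := by
  apply Groth.Agent.H8.KosIndep.isKoszulRegularIdeal_of_models
  intro 𝔭 h𝔭
  obtain ⟨z, hz⟩ := exists_point_of_ker_le j U hU hcl 𝔭 h𝔭
  obtain ⟨W, hzW, hclW, rs, hrs, hkerW⟩ := hj.2 z
  have hxU : hU.fromSpec 𝔭 ∈ U := by
    have : hU.fromSpec 𝔭 ∈ Set.range hU.fromSpec := ⟨𝔭, rfl⟩
    rw [hU.range_fromSpec] at this
    exact this
  have hxW : hU.fromSpec 𝔭 ∈ W.1 := hz ▸ hzW
  obtain ⟨f, g, hfg, hxf⟩ := exists_basicOpen_le_affine_inter hU W.2 (hU.fromSpec 𝔭) ⟨hxU, hxW⟩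
  have hf𝔭 : f ∉ 𝔭.asIdeal := by
    have h1 : 𝔭 ∈ hU.fromSpec ⁻¹ᵁ X.basicOpen f := hxf
    rw [hU.fromSpec_preimage_basicOpen] at h1
    exact h1
  obtain ⟨-, -, rs', -, hrs', hker'⟩ :=
    Groth.Agent.H8.KosImm.chart_basicOpen j W.1 W.2 hclW rs hrs hkerW g (X.basicOpen f) hfg
  have hDU : X.basicOpen f ≤ U := X.basicOpen_le f
  have hkerD := Groth.Agent.H8.KosImm.ker_app_basicOpen j U hU hcl f (X.basicOpen f) rfl hDU
  letI algS : Algebra Γ(X, U) Γ(X, X.basicOpen f) :=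
    (X.presheaf.map (homOfLE hDU).op).hom.toAlgebra
  haveI locS : IsLocalization.Away f Γ(X, X.basicOpen f) :=
    hU.isLocalization_of_eq_basicOpen f (homOfLE hDU) rfl
  refine ⟨f, hf𝔭, Γ(X, X.basicOpen f), inferInstance, algS, locS, rs', hrs', ?_⟩
  change (RingHom.ker (j.app U).hom).map (X.presheaf.map (homOfLE hDU).op).hom = _
  rw [← hkerD, hker']

/-- the prime of `Γ(X, U)` at a point `j z` contains the kernel of `j.app U`. -/
theorem ker_le_primeIdealOf (j : Z ⟶ X) (U : X.Opens) (hU : IsAffineOpen U)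
    (hcl : IsClosedImmersion (j ∣_ U)) (z : Z) (hz : j z ∈ U) :
    RingHom.ker (j.app U).hom ≤ (hU.primeIdealOf ⟨j z, hz⟩).asIdeal := by
  haveI := hcl
  obtain ⟨hV, -⟩ :=
    Groth.Agent.H1.RegImmersion.affine_and_surjective_of_isClosedImmersion_restrict j U hU
  have hzV : z ∈ j ⁻¹ᵁ U := hz
  let 𝔮 : PrimeSpectrum Γ(Z, j ⁻¹ᵁ U) := hV.primeIdealOf ⟨z, hzV⟩
  have h1 := IsAffineOpen.SpecMap_appLE_fromSpec j hU hV le_rfl
  have h2 := congrArg (fun φ : Spec Γ(Z, j ⁻¹ᵁ U) ⟶ X => φ 𝔮) h1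
  simp only [Scheme.Hom.comp_apply] at h2
  rw [hV.fromSpec_primeIdealOf ⟨z, hzV⟩] at h2
  have h3 : hU.fromSpec (hU.primeIdealOf ⟨j z, hz⟩) = j z := hU.fromSpec_primeIdealOf ⟨j z, hz⟩
  have h4 : (Spec.map (j.appLE U (j ⁻¹ᵁ U) le_rfl)) 𝔮 = hU.primeIdealOf ⟨j z, hz⟩ :=
    hU.fromSpec.isOpenEmbedding.injective (h2.trans h3.symm)
  rw [← h4]
  intro x hx
  change (j.appLE U (j ⁻¹ᵁ U) le_rfl).hom x ∈ 𝔮.asIdeal
  rw [Scheme.Hom.appLE_eq_app]
  have hx' : (j.app U).hom x = 0 := hx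
  rw [hx']
  exact Ideal.zero_mem _

/-- **a Koszul-regular kernel on an affine chart gives Koszul-regular charts at all points.** -/
theorem isRegularImmersionAt_of_isKoszulRegularIdeal (j : Z ⟶ X) (U : X.Opens)
    (hU : IsAffineOpen U) (hcl : IsClosedImmersion (j ∣_ U))
    (hK : LCI.IsKoszulRegularIdeal (RingHom.ker (j.app U).hom)) (z : Z) (hz : j z ∈ U) :
    RegImm.IsRegularImmersionAt .koszul j z := by
  obtain ⟨a, ha, l, hl, hgen⟩ := hK (hU.primeIdealOf ⟨j z, hz⟩) (ker_le_primeIdealOf j U hU hcl z hz)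
  have hDU : X.basicOpen a ≤ U := X.basicOpen_le a
  have hzD : j z ∈ X.basicOpen a := by
    have h1 : hU.primeIdealOf ⟨j z, hz⟩ ∈ hU.fromSpec ⁻¹ᵁ X.basicOpen a := by
      rw [hU.fromSpec_preimage_basicOpen]
      exact ha
    have h2 : hU.fromSpec (hU.primeIdealOf ⟨j z, hz⟩) ∈ X.basicOpen a := h1
    rwa [hU.fromSpec_primeIdealOf ⟨j z, hz⟩] at h2
  letI algS : Algebra Γ(X, U) Γ(X, X.basicOpen a) :=
    (X.presheaf.map (homOfLE hDU).op).hom.toAlgebra
  haveI locS : IsLocalization.Away a Γ(X, X.basicOpen a) :=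
    hU.isLocalization_of_eq_basicOpen a (homOfLE hDU) rfl
  let e : Localization.Away a ≃ₐ[Γ(X, U)] Γ(X, X.basicOpen a) :=
    IsLocalization.algEquiv (Submonoid.powers a) (Localization.Away a) Γ(X, X.basicOpen a)
  refine ⟨⟨X.basicOpen a, hU.basicOpen a⟩, hzD,
    Groth.Agent.H8.KosImm.isClosedImmersion_restrict_of_le j U _ hDU hcl,
    l.map e.toRingEquiv,
    Groth.Agent.H8.SyntLocal.isKoszulRegularSeq_map_ringEquiv e.toRingEquiv l hl, ?_⟩
  rw [Groth.Agent.H8.KosImm.ker_app_basicOpen j U hU hcl a (X.basicOpen a) rfl hDU]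
  have h1 : (X.presheaf.map (homOfLE hDU).op).hom =
      (e.toRingEquiv : Localization.Away a →+* Γ(X, X.basicOpen a)).comp
        (algebraMap Γ(X, U) (Localization.Away a)) := by
    ext b
    change algebraMap Γ(X, U) Γ(X, X.basicOpen a) b = e (algebraMap _ _ b)
    rw [e.commutes]
  rw [h1, ← Ideal.map_map, hgen]
  change Ideal.map _ (Ideal.ofList l) = _
  rw [Ideal.map_ofList]
  rfl

end Groth.Agent.H8.KosBCImm
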