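import Mathlib
import Groth.Prelude
import Groth.Agent.H4.KosBC
import Groth.Agent.Lib.Helper8.KosImm.Comp

set_option autoImplicit false
set_option linter.style.haveILetI false

universe u

open CategoryTheory CategoryTheory.Limits AlgebraicGeometry

attribute [local instance] HasDerivedCategory.standard

namespace Groth.Agent.H8.KosBCImm

section ring

/-- kernel of the base change of a surjection, for a pushout square of commutative rings. -/
theorem ker_of_isPushout {R S R' S' : CommRingCat.{u}} (φ : R ⟶ S) (ψ : R ⟶ R')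
    (ψ' : S ⟶ S') (φ' : R' ⟶ S') (h : IsPushout φ ψ ψ' φ')
    (hφ : Function.Surjective φ.hom) :
    RingHom.ker φ'.hom = (RingHom.ker φ.hom).map ψ.hom := by
  set K' : Ideal R' := (RingHom.ker φ.hom).map ψ.hom with hK'
  apply le_antisymm
  · -- use the universal property
    have hker : RingHom.ker φ.hom ≤ RingHom.ker ((Ideal.Quotient.mk K').comp ψ.hom) := by
      intro x hx
      change (Ideal.Quotient.mk K') (ψ.hom x) = 0
      exact Ideal.Quotient.eq_zero_iff_mem.mpr (Ideal.mem_map_of_mem _ hx)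
    let a : S ⟶ CommRingCat.of (R' ⧸ K') :=
      CommRingCat.ofHom (RingHom.liftOfSurjective φ.hom hφ
        ⟨(Ideal.Quotient.mk K').comp ψ.hom, hker⟩)
    let b : R' ⟶ CommRingCat.of (R' ⧸ K') := CommRingCat.ofHom (Ideal.Quotient.mk K')
    have hw : φ ≫ a = ψ ≫ b := by
      ext x
      exact RingHom.liftOfRightInverse_comp_apply φ.hom (Function.surjInv hφ)
        (Function.rightInverse_surjInv hφ) ⟨(Ideal.Quotient.mk K').comp ψ.hom, hker⟩ x
    have hdesc : φ' ≫ h.desc a b hw = b := h.inr_desc a b hw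
    intro x hx
    have h1 : b.hom x = 0 := by
      rw [← hdesc]
      change (h.desc a b hw).hom (φ'.hom x) = 0
      have hx' : φ'.hom x = 0 := hx
      rw [hx', map_zero]
    exact Ideal.Quotient.eq_zero_iff_mem.mp h1
  · rw [hK', Ideal.map_le_iff_le_comap]
    intro x hx
    change φ'.hom (ψ.hom x) = 0
    have h1 : φ'.hom (ψ.hom x) = ψ'.hom (φ.hom x) := by
      have := congrArg (fun f => f.hom x) h.w
      exact this.symm
    have hx' : φ.hom x = 0 := hx
    rw [h1, hx', map_zero]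

end ring

section chart

variable {X Y X' Y' : Scheme.{u}}

/-- base change of an affine chart where `i` is a closed immersion: `i'` is again a closed
immersion over `U'`, and its kernel is the extension of the kernel of `i`. -/
theorem chart_baseChange (i : Y ⟶ X) (g : X' ⟶ X) (i' : Y' ⟶ X') (g' : Y' ⟶ Y)
    (hsq : IsPullback g' i' i g) (U : X.Opens) (hU : IsAffineOpen U)
    (hcl : IsClosedImmersion (i ∣_ U))
    (U' : X'.Opens) (hU' : IsAffineOpen U') (hle : U' ≤ g ⁻¹ᵁ U) :
    IsClosedImmersion (i' ∣_ U') ∧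
      RingHom.ker (i'.app U').hom =
        (RingHom.ker (i.app U).hom).map (g.appLE U U' hle).hom := by
  haveI := hcl
  obtain ⟨hV, hsurj⟩ :=
    Groth.Agent.H1.RegImmersion.affine_and_surjective_of_isClosedImmersion_restrict i U hU
  have hle2 : i' ⁻¹ᵁ U' ≤ g' ⁻¹ᵁ (i ⁻¹ᵁ U) := by
    intro y hy
    have h1 : g (i' y) ∈ U := hle hy
    have h2 : i (g' y) = g (i' y) := by
      have := congrArg (fun φ : Y' ⟶ X => φ y) hsq.w
      simpa using this
    change i (g' y) ∈ U
    rw [h2]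
    exact h1
  have hUY : i' ⁻¹ᵁ U' = g' ⁻¹ᵁ (i ⁻¹ᵁ U) ⊓ i' ⁻¹ᵁ U' := (inf_eq_right.mpr hle2).symm
  have hpb := Scheme.Hom.isPullback_resLE hsq hle (le_refl (i ⁻¹ᵁ U)) hUY
  refine ⟨?_, ?_⟩
  · have h1 : IsClosedImmersion (i.resLE U (i ⁻¹ᵁ U) le_rfl) := by
      rw [Scheme.Hom.resLE_eq_morphismRestrict]
      exact hcl
    have h2 : IsClosedImmersion (i'.resLE U' (i' ⁻¹ᵁ U') le_rfl) :=
      MorphismProperty.of_isPullback hpb h1
    rw [← Scheme.Hom.resLE_eq_morphismRestrict]
    exact h2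
  · have hiso := isIso_pushoutSection_of_isAffineOpen hsq hle (le_refl (i ⁻¹ᵁ U)) hUY hU hU' hV
    have hpo := (isIso_pushoutSection_iff hsq hle (le_refl (i ⁻¹ᵁ U)) hUY).mp hiso
    have hsurj' : Function.Surjective (i.appLE U (i ⁻¹ᵁ U) le_rfl).hom := by
      rw [Scheme.Hom.appLE_eq_app]
      exact hsurj
    have := ker_of_isPushout _ _ _ _ hpo hsurj'
    rw [Scheme.Hom.appLE_eq_app, Scheme.Hom.appLE_eq_app] at this
    exact this

end chart

section main

variable {X Y X' Y' : Scheme.{u}}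

/-- base change of a Koszul-regular chart along a flat morphism. -/
theorem exists_chart_baseChange (i : Y ⟶ X) (g : X' ⟶ X) [Flat g] (i' : Y' ⟶ X') (g' : Y' ⟶ Y)
    (hsq : IsPullback g' i' i g) (z' : Y') (U : X.Opens) (hU : IsAffineOpen U)
    (hzU : i (g' z') ∈ U) (hcl : IsClosedImmersion (i ∣_ U))
    (rs : List Γ(X, U)) (hrs : LCI.IsKoszulRegularSeq Γ(X, U) rs)
    (hker : RingHom.ker (i.app U).hom = Ideal.ofList rs) :
    ∃ U' : X'.Opens, IsAffineOpen U' ∧ i' z' ∈ U' ∧ IsClosedImmersion (i' ∣_ U') ∧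
      ∃ rs' : List Γ(X', U'), rs'.length = rs.length ∧ LCI.IsKoszulRegularSeq Γ(X', U') rs' ∧
        RingHom.ker (i'.app U').hom = Ideal.ofList rs' := by
  have hz' : i' z' ∈ g ⁻¹ᵁ U := by
    have h2 : i (g' z') = g (i' z') := by
      have := congrArg (fun φ : Y' ⟶ X => φ z') hsq.w
      simpa using this
    change g (i' z') ∈ U
    rw [← h2]
    exact hzU
  obtain ⟨U', hU', hzU', hle⟩ :=
    (TopologicalSpace.Opens.isBasis_iff_nbhd.mp X'.isBasis_affineOpens) hz'
  obtain ⟨hcl', hker'⟩ := chart_baseChange i g i' g' hsq U hU hcl U' hU' hle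
  refine ⟨U', hU', hzU', hcl', rs.map (g.appLE U U' hle).hom, List.length_map _, ?_, ?_⟩
  · letI : Algebra Γ(X, U) Γ(X', U') := (g.appLE U U' hle).hom.toAlgebra
    haveI : Module.Flat Γ(X, U) Γ(X', U') :=
      HasRingHomProperty.appLE (P := @Flat) g inferInstance ⟨U, hU⟩ ⟨U', hU'⟩ hle
    exact Groth.Agent.H4.KosBC.isKoszulRegularSeq_map rs hrs
  · rw [hker', hker, Ideal.map_ofList]

/-- **flat base change of Koszul-regular immersions** -/
theorem koszulRegularImmersion_baseChange_flat (i : Y ⟶ X) (g : X' ⟶ X) [Flat g]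
    (i' : Y' ⟶ X') (g' : Y' ⟶ Y) (hsq : IsPullback g' i' i g)
    (hi : RegImm.IsRegularImmersion .koszul i) : RegImm.IsRegularImmersion .koszul i' := by
  obtain ⟨himm, hi⟩ := hi
  refine ⟨MorphismProperty.of_isPullback hsq himm, fun z' => ?_⟩
  obtain ⟨U, hzU, hcl, rs, hrs, hker⟩ := hi (g' z')
  obtain ⟨U', hU', hzU', hcl', rs', -, hrs', hker'⟩ :=
    exists_chart_baseChange i g i' g' hsq z' U.1 U.2 hzU hcl rs hrs hker
  exact ⟨⟨U', hU'⟩, hzU', hcl', rs', hrs', hker'⟩

end main

end Groth.Agent.H8.KosBCImm
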