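import Mathlib
import Groth.Prelude
import Groth.Agent.Lib.Helper8.KosBCImm.BC

set_option autoImplicit false
set_option linter.style.haveILetI false

universe u

open CategoryTheory CategoryTheory.Limits AlgebraicGeometry

attribute [local instance] HasDerivedCategory.standard

namespace Groth.Agent.H8.KosBCImm

variable {X Y X' Y' : Scheme.{u}}

/-- flat base change of the factorisation form of local complete intersection morphisms. -/
theorem isKoszulAt_baseChange_flat (f : X ⟶ Y) (g : Y' ⟶ Y) [Flat g]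
    (f' : X' ⟶ Y') (g' : X' ⟶ X) (hsq : IsPullback g' f' f g)
    (hf : ∀ x : X, Synt.IsKoszulAt f x) : ∀ x' : X', Synt.IsKoszulAt f' x' := by
  intro x'
  obtain ⟨U, P, i, π, hxU, hlft, hi, hπ, hcomm⟩ := hf (g' x')
  have hbig : IsPullback (g' ∣_ U) ((g' ⁻¹ᵁ U).ι ≫ f') (U.ι ≫ f) g :=
    (isPullback_morphismRestrict g' U).paste_vert hsq
  let i' : ((g' ⁻¹ᵁ U : X'.Opens) : Scheme.{u}) ⟶ pullback π g :=
    pullback.lift ((g' ∣_ U) ≫ i) ((g' ⁻¹ᵁ U).ι ≫ f') (by
      rw [Category.assoc, hcomm, hbig.w])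
  have htop : IsPullback (g' ∣_ U) i' i (pullback.fst π g) := by
    refine IsPullback.of_bot ?_ (pullback.lift_fst _ _ _).symm (IsPullback.of_hasPullback π g)
    rw [pullback.lift_snd, hcomm]
    exact hbig
  refine ⟨g' ⁻¹ᵁ U, pullback π g, i', pullback.snd π g, hxU, ?_, ?_, ?_, pullback.lift_snd _ _ _⟩
  · exact MorphismProperty.of_isPullback hbig hlft
  · exact koszulRegularImmersion_baseChange_flat i (pullback.fst π g) i' (g' ∣_ U) htop hi
  · infer_instance

end Groth.Agent.H8.KosBCImm
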