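import Mathlib
import Groth.Prelude
import Groth.Agent.Lib.Helper8.KosBCImm.BC
import Groth.Agent.Lib.Helper8.KosBCImm.Ideal
import Groth.Agent.Lib.Helper8.KosDesc.Main

set_option autoImplicit false
set_option linter.style.haveILetI false

universe u

open CategoryTheory CategoryTheory.Limits AlgebraicGeometry

attribute [local instance] HasDerivedCategory.standard

namespace Groth.Agent.H8.KosBCImm

section ff

variable {X T : Scheme.{u}}

/-- a flat morphism from an affine scheme whose image covers the affine open `U` induces a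
faithfully flat ring map on sections. -/
theorem faithfullyFlat_appLE_top (r : T ⟶ X) [Flat r] [IsAffine T] (U : X.Opens)
    (hU : IsAffineOpen U) (hle : (⊤ : T.Opens) ≤ r ⁻¹ᵁ U)
    (hsurj : ∀ x ∈ U, ∃ t : T, r t = x) :
    (r.appLE U ⊤ hle).hom.FaithfullyFlat := by
  rw [RingHom.FaithfullyFlat.iff_flat_and_comap_surjective]
  refine ⟨HasRingHomProperty.appLE (P := @Flat) r inferInstance ⟨U, hU⟩
    ⟨⊤, isAffineOpen_top T⟩ hle, fun 𝔭 => ?_⟩
  have hxU : hU.fromSpec 𝔭 ∈ U := by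
    have : hU.fromSpec 𝔭 ∈ Set.range hU.fromSpec := ⟨𝔭, rfl⟩
    rw [hU.range_fromSpec] at this
    exact this
  obtain ⟨t, ht⟩ := hsurj _ hxU
  have hT := isAffineOpen_top T
  let 𝔮 : PrimeSpectrum Γ(T, ⊤) := hT.primeIdealOf ⟨t, trivial⟩
  refine ⟨𝔮, ?_⟩
  have h1 := IsAffineOpen.SpecMap_appLE_fromSpec r hU hT hle
  have h2 := congrArg (fun φ : Spec Γ(T, ⊤) ⟶ X => φ 𝔮) h1
  simp only [Scheme.Hom.comp_apply] at h2
  rw [hT.fromSpec_primeIdealOf ⟨t, trivial⟩] at h2
  exact hU.fromSpec.isOpenEmbedding.injective (h2.trans ht)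

end ff

section main

variable {X Y X' Y' : Scheme.{u}}

/-- **fpqc descent of Koszul-regular immersions** -/
theorem koszulRegularImmersion_of_baseChange (i : Y ⟶ X) [IsImmersion i]
    (g : X' ⟶ X) [Flat g] [Surjective g] [QuasiCompact g]
    (i' : Y' ⟶ X') (g' : Y' ⟶ Y) (hsq : IsPullback g' i' i g)
    (hi' : RegImm.IsRegularImmersion .koszul i') : RegImm.IsRegularImmersion .koszul i := by
  refine ⟨inferInstance, fun z => ?_⟩
  have hzc : i z ∈ i.coborderRange := subset_coborder ⟨z, rfl⟩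
  obtain ⟨U, hU, hzU, hUc⟩ :=
    (TopologicalSpace.Opens.isBasis_iff_nbhd.mp X.isBasis_affineOpens) hzc
  have hcl : IsClosedImmersion (i ∣_ U) :=
    Groth.Agent.H1.RegImmersion.isClosedImmersion_morphismRestrict i U hUc
  haveI : CompactSpace ((g ⁻¹ᵁ U : X'.Opens) : Scheme.{u}) :=
    isCompact_iff_compactSpace.mp (g.isCompact_preimage hU.isCompact)
  obtain ⟨T, p, hpsurj, hpflat, hTaff⟩ :=
    Scheme.exists_hom_isAffine_of_isZariskiLocalAtSource @Flat ((g ⁻¹ᵁ U : X'.Opens) : Scheme.{u})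
  haveI := hpflat
  haveI := hTaff
  let q : T ⟶ X' := p ≫ (g ⁻¹ᵁ U).ι
  have hj : RegImm.IsRegularImmersion .koszul (pullback.snd i' q) :=
    koszulRegularImmersion_baseChange_flat i' q (pullback.snd i' q) (pullback.fst i' q)
      (IsPullback.of_hasPullback i' q) hi'
  have hbig : IsPullback (pullback.fst i' q ≫ g') (pullback.snd i' q) i (q ≫ g) :=
    (IsPullback.of_hasPullback i' q).paste_horiz hsq
  have hle : (⊤ : T.Opens) ≤ (q ≫ g) ⁻¹ᵁ U := by
    intro t _
    change g ((g ⁻¹ᵁ U).ι (p t)) ∈ U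
    exact (p t).2
  obtain ⟨hclT, hkerT⟩ := chart_baseChange i (q ≫ g) (pullback.snd i' q)
    (pullback.fst i' q ≫ g') hbig U hU hcl ⊤ (isAffineOpen_top T) hle
  have hKRT := isKoszulRegularIdeal_ker (pullback.snd i' q) hj ⊤ (isAffineOpen_top T) hclT
  rw [hkerT] at hKRT
  have hff : ((q ≫ g).appLE U ⊤ hle).hom.FaithfullyFlat := by
    apply faithfullyFlat_appLE_top (q ≫ g) U hU hle
    intro x hx
    obtain ⟨w, hw⟩ := g.surjective x
    have hwW : w ∈ g ⁻¹ᵁ U := by
      change g w ∈ U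
      rw [hw]; exact hx
    obtain ⟨t, ht⟩ := hpsurj.surj ⟨w, hwW⟩
    refine ⟨t, ?_⟩
    change g ((g ⁻¹ᵁ U).ι (p t)) = x
    rw [ht]
    exact hw
  letI : Algebra Γ(X, U) Γ(T, ⊤) := ((q ≫ g).appLE U ⊤ hle).hom.toAlgebra
  haveI : Module.FaithfullyFlat Γ(X, U) Γ(T, ⊤) := hff
  have hKR : LCI.IsKoszulRegularIdeal (RingHom.ker (i.app U).hom) :=
    Groth.Agent.H8.KosDesc.isKoszulRegularIdeal_of_faithfullyFlat (B := Γ(T, ⊤)) _ hKRT
  exact isRegularImmersionAt_of_isKoszulRegularIdeal i U hU hcl hKR z hzU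

end main

end Groth.Agent.H8.KosBCImm
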